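import Cfsg.Agent.Lib.ChevStructure.D4Torus.Roots
import Cfsg.Agent.Lib.LieTwisted.Twist.D4Thms
import Cfsg.Agent.Lib.ChevStructure.G2Torus.Regular
import Mathlib.FieldTheory.Finite.Extension

/-!
³D₄(q) has a self-centralising cyclic subgroup of order (q³ - 1)(q + 1): a product of a Singer cycle of
the SL₂ of the highest root and a diagonal element.
-/

set_option autoImplicit false
set_option maxRecDepth 100000
set_option linter.unusedSectionVars false

namespace Cfsg.Agent.Lib.ChevStructure.D4Torus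

open Cfsg.Lie ChevStructure LieTwisted LieTwisted.Twist
open scoped MatrixGroups

section Field

variable {F : Type*} [Field F] [Fintype F]

/-- the twisting endomorphism -/
noncomputable abbrev Th (φ : F ≃+* F) : GL chevD4.Idx F ≃* GL chevD4.Idx F := Frob.theta D4.g φ

theorem Th_HT (φ : F ≃+* F) (e : Fin chevD4.rank → Fˣ) : Th φ (D4.C.HT F e) = D4.C.HT F (D4.τT φ e) :=
  Frob.theta_HT D4.C D4.g φ D4.root_p D4.root_rev D4.sign_p e

theorem eps_cast (r : Rt chevD4) : (GraphData.symD4.ε r : F) ≠ 0 := fun h => by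
  have := GraphAut.eps_cast_mul_self F D4.g r.isLt
  rw [h, mul_zero] at this
  exact zero_ne_one this

theorem chA_Th (φ : F ≃+* F) (e : Fin chevD4.rank → Fˣ) (r : Rt chevD4) :
    D4.C.chA (D4.τT φ e) (Frob.rootPerm D4.g r) = Units.map (φ : F →* F) (D4.C.chA e r) := by
  have h := congrArg (Th φ) (D4.C.HT_X_conj F e r 1)
  rw [map_mul, map_mul, map_inv, Th_HT, Frob.theta_X D4.C, Frob.theta_X D4.C, D4.C.HT_X_conj, mul_one, map_one,
    mul_one] at h
  set s := Frob.rootPerm D4.g r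
  have h2 : D4.C.X F s ((D4.C.chA (D4.τT φ e) s : F) * (GraphData.symD4.ε r : F) -
      (GraphData.symD4.ε r : F) * φ (D4.C.chA e r : F)) = 1 := by
    rw [sub_eq_add_neg, ← D4.C.X_add, ← D4.C.X_inv, h, mul_inv_cancel]
  have h3 := sub_eq_zero.1 (D4.C.X_eq_one h2)
  rw [mul_comm] at h3
  exact Units.ext (mul_left_cancel₀ (eps_cast r) h3)

theorem slHom_N {φ : SL2 F →* GL chevD4.Idx F}
    (hφ : ∀ t : F, φ (slU t) = D4.C.X F r0 t ∧ φ (slL t) = D4.C.X F r0.rev t) (u : Fˣ) :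
    φ (slN u) = D4.C.nR F r0 u := by
  simp only [slN, map_mul, (hφ _).1, (hφ _).2, Core.nR]

theorem slHom_conj {φ : SL2 F →* GL chevD4.Idx F}
    (hφ : ∀ t : F, φ (slU t) = D4.C.X F r0 t ∧ φ (slL t) = D4.C.X F r0.rev t)
    {e : Fin chevD4.rank → Fˣ} {z : Fˣ} (he : D4.C.chA e r0 = z) (M : SL2 F) :
    D4.C.HT F e * φ M * (D4.C.HT F e)⁻¹ = φ (delta z M) := by
  have h : (MulAut.conj (D4.C.HT F e)).toMonoidHom.comp φ = φ.comp (delta z) := by
    refine sl_ext (fun t => ?_) (fun t => ?_)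
    · show D4.C.HT F e * φ (slU t) * (D4.C.HT F e)⁻¹ = φ (delta z (slU t))
      have e1 : delta z (slU t) = slU ((z : F) * t) := by
        refine Subtype.ext ?_
        show !![(slU t).1 0 0, _; _, _] = _
        simp [slU]
      rw [e1, (hφ _).1, (hφ _).1, D4.C.HT_X_conj, he]
    · show D4.C.HT F e * φ (slL t) * (D4.C.HT F e)⁻¹ = φ (delta z (slL t))
      have e1 : delta z (slL t) = slL ((↑z⁻¹ : F) * t) := by
        refine Subtype.ext ?_
        show !![(slL t).1 0 0, _; _, _] = _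
        simp [slL]
      have e2 : D4.C.chA e r0.rev = z⁻¹ := by
        rw [← D4.C.chr_chA, D4.C.chr_rev, D4.C.chr_chA, he]
      rw [e1, (hφ _).2, (hφ _).2, D4.C.HT_X_conj, e2]
  exact DFunLike.congr_fun h M

theorem slHom_Th {φ : SL2 F →* GL chevD4.Idx F}
    (hφ : ∀ t : F, φ (slU t) = D4.C.X F r0 t ∧ φ (slL t) = D4.C.X F r0.rev t)
    (σ : F ≃+* F) (M : SL2 F) :
    Th σ (φ M) = φ (Matrix.SpecialLinearGroup.map (σ : F →+* F) M) := by
  obtain ⟨-, -, -, -, hr, hr', he, he'⟩ := pi_lit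
  have h : (Th σ).toMonoidHom.comp φ = φ.comp (Matrix.SpecialLinearGroup.map (σ : F →+* F)) := by
    refine sl_ext (fun t => ?_) (fun t => ?_)
    · show Th σ (φ (slU t)) = φ (Matrix.SpecialLinearGroup.map (σ : F →+* F) (slU t))
      have e1 : Matrix.SpecialLinearGroup.map (σ : F →+* F) (slU t) = slU (σ t) := by
        refine Subtype.ext ?_
        show (slU t).1.map σ = _
        ext a b; fin_cases a <;> fin_cases b <;> simp [slU]
      rw [e1, (hφ _).1, (hφ _).1, Frob.theta_X D4.C, hr, he, Int.cast_one, one_mul]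
    · show Th σ (φ (slL t)) = φ (Matrix.SpecialLinearGroup.map (σ : F →+* F) (slL t))
      have e1 : Matrix.SpecialLinearGroup.map (σ : F →+* F) (slL t) = slL (σ t) := by
        refine Subtype.ext ?_
        show (slL t).1.map σ = _
        ext a b; fin_cases a <;> fin_cases b <;> simp [slL]
      rw [e1, (hφ _).2, (hφ _).2, Frob.theta_X D4.C, hr', he', Int.cast_one, one_mul]
  exact DFunLike.congr_fun h M

theorem eigen_eq (m1 m2 s ν z : Fˣ) (hz : z = m1 * m2) (hν : ν * m2 = 1) (g0 : SL2 F)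
    (hg : g0.1 = !![-((z : F) * s), -(z : F); (m1 : F) * s, (m2 : F)]) :
    slN (-z) * slU ((z : F) * ((m1 : F) + m2)) * delta z g0 = g0 * slH ν := by
  obtain rfl := eq_inv_of_mul_eq_one_left hν
  subst hz
  refine Subtype.ext ?_
  show (slN (-(m1 * m2))).1 * (slU _).1 * !![g0.1 0 0, _; _, g0.1 1 1] = g0.1 * (slH m2⁻¹).1
  rw [slN_val, slU_val, slH_val, hg]
  have h1 : (m1 : F) ≠ 0 := m1.ne_zero
  have h2 : (m2 : F) ≠ 0 := m2.ne_zero
  ext i j
  fin_cases i <;> fin_cases j <;> simp [Matrix.mul_apply, Fin.sum_univ_two] <;> field_simp <;> ring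

theorem frob_eq (m1 m2 s z : Fˣ) (σ : F ≃+* F) (hz : σ z = z) (h1 : σ (m1 : F) = m2) (h2 : σ (m2 : F) = m1)
    (hs : σ (s : F) = -s) (g0 : SL2 F)
    (hg : g0.1 = !![-((z : F) * s), -(z : F); (m1 : F) * s, (m2 : F)]) :
    g0.1.map σ = g0.1 * (slN s⁻¹).1 := by
  rw [slN_val, hg]
  have h : (s : F) ≠ 0 := s.ne_zero
  ext i j
  fin_cases i <;> fin_cases j <;> simp [Matrix.mul_apply, Fin.sum_univ_two, hz, hs, h1, h2]

theorem nR_HT_conj (u : Fˣ) (e : Fin chevD4.rank → Fˣ) :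
    (D4.C.nR F r0 u)⁻¹ * D4.C.HT F e * D4.C.nR F r0 u =
      Core.hD F r0 (D4.C.chA e r0)⁻¹ * D4.C.HT F e := by
  have h : D4.C.HT F e * D4.C.nR F r0 u * (D4.C.HT F e)⁻¹ = D4.C.nR F r0 (D4.C.chA e r0 * u) := by
    rw [D4.C.HT_eq_T, D4.C.T_nR_conj, D4.C.chr_chA]
  calc (D4.C.nR F r0 u)⁻¹ * D4.C.HT F e * D4.C.nR F r0 u
      = (D4.C.nR F r0 u)⁻¹ * (D4.C.HT F e * D4.C.nR F r0 u * (D4.C.HT F e)⁻¹) * D4.C.HT F e := by group
    _ = _ := by
      rw [h, D4.C.nR_inv, D4.C.nR_mul]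
      congr 2
      rw [neg_mul, neg_neg, mul_inv_rev, mul_inv_cancel_left]

end Field

variable {K : Type*} [Field K] [Fintype K] {q : ℕ}

theorem exists_torus (hq : IsPrimePow q) (hK : Fintype.card K = q ^ 3) :
    ∃ H : Subgroup ↥(Cfsg.Lie.twistedD4 K q), IsCyclic ↥H ∧ Nat.card ↥H = (q ^ 3 - 1) * (q + 1) ∧
      Subgroup.centralizer (H : Set ↥(Cfsg.Lie.twistedD4 K q)) = H := by
  classical
  obtain ⟨φ, FK, hW⟩ := D4.exists_model hq hK
  set T := (D4.orth FK hq.one_lt hK).tw with hT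
  have hmemW : ∀ g, g ∈ Cfsg.Lie.twistedD4 K q ↔ g ∈ chevD4.group K ∧ Th φ g = g := fun g => by
    rw [← hW]; exact T.mem_W_iff
  obtain ⟨p, hp⟩ := CharP.exists K
  haveI : Fact p.Prime := ⟨CharP.char_is_prime K p⟩
  let L := FiniteField.Extension K p 2
  haveI : Finite L := Module.finite_of_finite K
  letI : Fintype L := Fintype.ofFinite L
  have hL : Fintype.card L = q ^ 6 := by
    rw [← Nat.card_eq_fintype_card, FiniteField.natCard_extension, Nat.card_eq_fintype_card, hK, ← pow_mul]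
  obtain ⟨σ, FL⟩ := Frob.exists_frob hq hL (by norm_num)
  let f := algebraMap K L
  have hfσ : ∀ t : K, f (φ t) = σ (f t) := fun t => by rw [FK.apply, FL.apply, map_pow]
  have hdeg : (Polynomial.X ^ (q ^ 3) - Polynomial.X : Polynomial L).natDegree = q ^ 3 :=
    FiniteField.X_pow_card_sub_X_natDegree_eq L (Nat.one_lt_pow (by norm_num) hq.one_lt)
  have hfix : ∀ x : L, x ^ q ^ 3 = x → ∃ a : K, f a = x := by
    intro x hx
    by_contra hne
    push Not at hne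
    have hP : (Polynomial.X ^ (q ^ 3) - Polynomial.X : Polynomial L) ≠ 0 := fun h => by
      rw [h, Polynomial.natDegree_zero] at hdeg
      exact (pow_pos (zero_lt_one.trans hq.one_lt) 3).ne hdeg
    have hsub : insert x (Finset.univ.image f) ⊆
        (Polynomial.X ^ (q ^ 3) - Polynomial.X : Polynomial L).roots.toFinset := by
      intro y hy
      have hy' : y ^ q ^ 3 = y := by
        rcases Finset.mem_insert.1 hy with rfl | hy
        · exact hx
        · obtain ⟨a, -, rfl⟩ := Finset.mem_image.1 hy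
          rw [← map_pow, ← hK, FiniteField.pow_card]
      rw [Multiset.mem_toFinset, Polynomial.mem_roots hP]
      simp [hy']
    have h1 := (Finset.card_le_card hsub).trans ((Multiset.toFinset_card_le _).trans (Polynomial.card_roots' _))
    rw [Finset.card_insert_of_notMem (by simpa [f] using hne),
      Finset.card_image_of_injective _ f.injective, Finset.card_univ, hK, hdeg] at h1
    omega
  -- exponents
  obtain ⟨γ, hγ⟩ := IsCyclic.exists_generator (α := Lˣ)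
  have hq2 : (2 : ℤ) ≤ (q : ℤ) := by exact_mod_cast hq.two_le
  have hγd : ∀ i : ℤ, γ ^ i = 1 ↔ (q : ℤ) ^ 6 - 1 ∣ i := fun i => by
    rw [← orderOf_dvd_iff_zpow_eq_one, orderOf_eq_card_of_forall_mem_zpowers hγ, FL.card_units,
      Nat.cast_sub (Nat.one_le_pow _ _ (zero_lt_one.trans hq.one_lt)), Nat.cast_pow, Nat.cast_one]
  set Q : ℤ := (q : ℤ) with hQ
  have hγe : ∀ (i j k : ℤ), i - j = k * (Q ^ 6 - 1) → γ ^ i = γ ^ j := fun i j k h => by
    rw [← mul_inv_eq_one, ← zpow_sub, hγd, h]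
    exact dvd_mul_left _ _
  have hpowQ : ∀ (i : ℤ) (k : ℕ), (γ ^ i) ^ q ^ k = γ ^ (i * Q ^ k) := fun i k => by
    rw [← zpow_natCast, ← zpow_mul, Nat.cast_pow]
  set P : ℤ := Q ^ 4 + Q ^ 2 + 1 with hP
  set ν : Lˣ := γ ^ P with hν
  set a : Lˣ := γ ^ (-(Q * (Q ^ 3 + 1))) with ha
  set m1 : Lˣ := γ ^ (-(Q * P)) with hm1
  set m2 : Lˣ := γ ^ (-(Q ^ 2 * P)) with hm2
  set z : Lˣ := m1 * m2 with hz
  set l : Lˣ := γ ^ (Q ^ 2 - Q + 1) with hl
  have hσu : ∀ u : Lˣ, σ (u : L) = ((u ^ q : Lˣ) : L) := fun u => by rw [FL.apply, Units.val_pow_eq_pow_val]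
  have ha3 : a ^ q ^ 3 = a := by
    rw [ha, hpowQ]; exact hγe _ _ (-Q) (by ring)
  have hm1q : m1 ^ q = m2 := by
    rw [hm1, ← pow_one q, hpowQ]; exact hγe _ _ 0 (by ring)
  have hm2q : m2 ^ q = m1 := by
    rw [hm2, ← pow_one q, hpowQ]; exact hγe _ _ (-Q) (by rw [hP]; ring)
  have hνm2 : ν * m2 = 1 := by
    rw [hν, hm2, ← zpow_add, hγd]; exact ⟨-1, by rw [hP]; ring⟩
  have hm12 : m1 ≠ m2 := by
    intro h
    rw [hm1, hm2, ← mul_inv_eq_one, ← zpow_sub, hγd] at h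
    have h1 : Q ^ 6 - 1 ∣ (Q * P) * (Q - 1) := by
      rw [show (Q * P) * (Q - 1) = -(Q * P) - -(Q ^ 2 * P) by ring]; exact h
    have h2 := Int.le_of_dvd (mul_pos (mul_pos (by omega) (by rw [hP]; positivity)) (by omega)) h1
    have h3 : (Q * P) * (Q - 1) < Q ^ 6 - 1 := by
      have h4 : 0 < (Q - 1) * P := mul_pos (by omega) (by rw [hP]; positivity)
      have h5 : Q ^ 6 - 1 - (Q * P) * (Q - 1) = (Q - 1) * P := by rw [hP]; ring
      linarith
    omega
  have hzq : z ^ q = z := by rw [hz, mul_pow, hm1q, hm2q, mul_comm]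
  have hiter : ∀ (u : Lˣ) (k : ℕ), u ^ q ^ (k + 1) = (u ^ q ^ k) ^ q := fun u k => by rw [← pow_mul, pow_succ]
  have hz3 : z ^ q ^ 3 = z := by
    rw [hiter, hiter, hiter, pow_zero, pow_one, hzq, hzq, hzq]
  -- the elements of K
  have hfixU : ∀ u : Lˣ, u ^ q ^ 3 = u → ∃ v : Kˣ, f (v : K) = (u : L) := by
    intro u hu
    obtain ⟨v, hv⟩ := hfix (u : L) (by rw [← Units.val_pow_eq_pow_val, hu])
    exact ⟨Units.mk0 v fun h => u.ne_zero (by rw [← hv, h, map_zero]), hv⟩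
  obtain ⟨aK, haK⟩ := hfixU a ha3
  obtain ⟨zK, hzK⟩ := hfixU z hz3
  have hσm1 : σ (m1 : L) = m2 := by rw [hσu, hm1q]
  have hσm2 : σ (m2 : L) = m1 := by rw [hσu, hm2q]
  have hτσ : σ ((m1 : L) + m2) = (m1 : L) + m2 := by rw [map_add, hσm1, hσm2, add_comm]
  obtain ⟨tK, htK⟩ : ∃ t : K, f t = (m1 : L) + m2 := by
    refine hfix _ ?_
    rw [← FL.iterate, Function.iterate_fixed hτσ]
  have hφz : φ (zK : K) = zK := f.injective (by rw [hfσ, hzK, hσu, hzq])
  have hφt : φ tK = tK := f.injective (by rw [hfσ, htK, hτσ])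
  -- the element x
  let φU : Kˣ →* Kˣ := Units.map (φ : K →* K)
  let eK : Fin chevD4.rank → Kˣ := ![aK, zK, φU aK, φU (φU aK)]
  have heK : D4.τT φ eK = eK := by
    obtain ⟨s0, s1, s2, s3⟩ := rho_symm
    funext j
    show Units.map (φ : K →* K) (eK _) = _
    rcases node_cases j with rfl | rfl | rfl | rfl
    · rw [s0]; exact Units.ext (FK.pow _)
    · rw [s1]; exact Units.ext hφz
    · rw [s2]; rfl
    · rw [s3]; rfl
  obtain ⟨-, -, -, -, hr, hr', he, he'⟩ := pi_lit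
  have hXfix : ∀ t : K, φ t = t → Th φ (D4.C.X K r0 t) = D4.C.X K r0 t ∧
      Th φ (D4.C.X K r0.rev t) = D4.C.X K r0.rev t := fun t ht => by
    constructor
    · rw [Frob.theta_X D4.C, hr, he, Int.cast_one, one_mul, ht]
    · rw [Frob.theta_X D4.C, hr', he', Int.cast_one, one_mul, ht]
  let xK : GL chevD4.Idx K := D4.C.nR K r0 (-zK) * D4.C.X K r0 ((zK : K) * tK) * D4.C.HT K eK
  have hxW : xK ∈ Cfsg.Lie.twistedD4 K q := by
    refine (hmemW _).2 ⟨mul_mem (mul_mem (D4.C.nR_mem_group _ _) (D4.C.X_mem_group _ _)) (D4.C.HT_mem_group _), ?_⟩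
    have h1 : φ ((-zK : Kˣ) : K) = ((-zK : Kˣ) : K) := by rw [Units.val_neg, map_neg, hφz]
    have h2 : φ (-((-zK)⁻¹ : Kˣ) : K) = -(((-zK)⁻¹ : Kˣ) : K) := by
      rw [map_neg, Units.val_inv_eq_inv_val, map_inv₀, h1]
    simp only [xK, Core.nR, map_mul, Th_HT, heK]
    rw [(hXfix _ h1).1, (hXfix _ h2).2, (hXfix _ (by rw [map_mul, hφz, hφt])).1]
  -- the picture over L
  let mg := Matrix.GeneralLinearGroup.map (n := chevD4.Idx) f
  have hmg : ∀ g ∈ chevD4.group K, mg (Th φ g) = Th σ (mg g) := by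
    intro g hg
    induction hg using Subgroup.closure_induction with
    | mem x hx =>
      obtain ⟨r, t, hx⟩ := hx
      have e : x = D4.C.X K r t := D4.C.eq_X (hx.trans (by simp [ChevalleyDatum.x]))
      rw [e, Frob.theta_X D4.C]
      simp only [mg, D4.C.X_map, Frob.theta_X D4.C]
      rw [map_mul, map_intCast, hfσ]
    | one => simp
    | mul x y hx hy ihx ihy => simp only [map_mul, ihx, ihy]
    | inv x hx ih => simp only [map_inv, ih]
  obtain ⟨ψ, hψr, hψ⟩ := D4.C.exists_slHom L r0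
  have hψmem : ∀ M, ψ M ∈ chevD4.group L := fun M => by
    have : ψ M ∈ ψ.range := ⟨M, rfl⟩
    rw [hψr] at this
    exact sup_le (D4.C.US_le_group _) (D4.C.US_le_group _) this
  let cc : Fin chevD4.rank → Lˣ :=
    ![l, l ^ (-(Q ^ 3 - 1)), l ^ (Q - (Q ^ 3 - 1)), l ^ (Q ^ 2)]
  let e1 : Fin chevD4.rank → Lˣ := fun j => Units.map (f : K →* L) (eK j)
  have he1 : e1 n0 = a ∧ e1 n1 = z ∧ e1 n2 = a ^ q ∧ e1 n3 = a ^ q ^ 2 := by
    refine ⟨Units.ext haK, Units.ext hzK, Units.ext ?_, Units.ext ?_⟩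
    · show f (φ (aK : K)) = _
      rw [hfσ, haK, hσu]
    · show f (φ (φ (aK : K))) = _
      rw [hfσ, hfσ, haK, hσu, hσu, ← pow_mul, ← sq]
  have he1r : D4.C.chA e1 r0 = z := by
    obtain ⟨-, -, -, -, A0, A1, A2, A3, -⟩ := r0_data
    rw [Core.chA, prod_four, A0, A1, A2, A3]
    simp [he1.2.1]
  have hsne : (m1 : L) - m2 ≠ 0 := sub_ne_zero.2 fun h => hm12 (Units.ext h)
  let s : Lˣ := Units.mk0 (((z : L) * ((m1 : L) - m2))⁻¹) (inv_ne_zero (mul_ne_zero z.ne_zero hsne))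
  have hs : (z : L) * ((m1 : L) - m2) * s = 1 := mul_inv_cancel₀ (mul_ne_zero z.ne_zero hsne)
  let g0 : SL2 L := ⟨!![-((z : L) * s), -(z : L); (m1 : L) * s, (m2 : L)], by
    rw [Matrix.det_fin_two_of]; linear_combination hs⟩
  have hA : slN (-z) * slU ((z : L) * ((m1 : L) + m2)) * delta z g0 = g0 * slH ν :=
    eigen_eq m1 m2 s ν z hz hνm2 g0 rfl
  have hX : (ψ g0)⁻¹ * mg xK * ψ g0 = D4.C.HT L cc := by
    have h1 : mg xK = ψ (slN (-z) * slU ((z : L) * ((m1 : L) + m2))) * D4.C.HT L e1 := by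
      have hn : Units.map (f : K →* L) (-zK) = -z := Units.ext (by simp [hzK])
      simp only [xK, mg, map_mul, slHom_N hψ, (hψ _).1, D4.C.X_map, ChevFixed.map_HT, Core.nR]
      rw [← hn]
      simp [htK, hzK, e1]
    rw [h1, ← mul_assoc, mul_assoc, show D4.C.HT L e1 * ψ g0 =
      D4.C.HT L e1 * ψ g0 * (D4.C.HT L e1)⁻¹ * D4.C.HT L e1 by group, slHom_conj hψ he1r, ← mul_assoc,
      mul_assoc (ψ g0)⁻¹, ← map_mul, hA, map_mul, inv_mul_cancel_left]
    rw [show slH ν = slN ν * slN (-1) from rfl, map_mul, slHom_N hψ, slHom_N hψ, D4.C.hR_eq, D4.C.hD_eq_HT,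
      D4.C.HT_mul]
    congr 1
    obtain ⟨-, -, -, -, -, -, -, -, o0, o1, o2, o3⟩ := r0_data
    funext j
    show ν ^ co chevD4 r0 j * e1 j = cc j
    rcases node_cases j with rfl | rfl | rfl | rfl
    · rw [o0, he1.1, zpow_one, hν, ha, ← zpow_add]
      exact hγe _ _ 0 (by rw [hP]; ring)
    · rw [o1, he1.2.1, hz, hν, hm1, hm2, ← zpow_mul, ← zpow_add, ← zpow_add]
      refine (hγe _ _ (-1) ?_).trans (zpow_mul γ (Q ^ 2 - Q + 1) _)
      rw [hP]; ring
    · rw [o2, he1.2.2.1, zpow_one, hν, ha, ← pow_one q, hpowQ, ← zpow_add]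
      refine (hγe _ _ 0 ?_).trans (zpow_mul γ (Q ^ 2 - Q + 1) _)
      rw [hP]; ring
    · rw [o3, he1.2.2.2, zpow_one, hν, ha, hpowQ, ← zpow_add]
      refine (hγe _ _ (-1) ?_).trans (zpow_mul γ (Q ^ 2 - Q + 1) _)
      rw [hP]; ring
  have hchA : ∀ r, D4.C.chA cc r = l ^ EX Q r := by
    intro r
    have key : ∀ (x : Lˣ) (b0 b1 b2 b3 : ℤ), x ^ b0 * (x ^ (-(Q ^ 3 - 1))) ^ b1 * (x ^ (Q - (Q ^ 3 - 1))) ^ b2 *
        (x ^ (Q ^ 2)) ^ b3 = x ^ (b0 + b1 * (-(Q ^ 3 - 1)) + b2 * (Q - (Q ^ 3 - 1)) + b3 * Q ^ 2) := fun x b0 b1 b2 b3 => by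
      simp only [← zpow_mul, ← zpow_add]
      congr 1
      ring
    rw [Core.chA, prod_four]
    exact key _ _ _ _ _
  have hld : ∀ i : ℤ, l ^ i = 1 ↔ (Q ^ 3 - 1) * (Q + 1) ∣ i := by
    intro i
    rw [hl, ← zpow_mul, hγd, show Q ^ 6 - 1 = (Q ^ 2 - Q + 1) * ((Q ^ 3 - 1) * (Q + 1)) by ring]
    exact mul_dvd_mul_iff_left (by nlinarith)
  have hreg1 : ∀ r, D4.C.chA cc r ≠ 1 := fun r h => EX_ne hq2 r ((hld _).1 (hchA r ▸ h))
  have hreg2 : ∀ ω ∈ D4.C.WG, (∀ r, D4.C.chA cc (ω r) = D4.C.chA cc r) → ω = 1 := by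
    intro ω hω h
    have hf : ∀ t ∈ ([a1, a3, a4, a12] : List (Rt chevD4)), ω t = t := fun t ht => by
      refine EX_sep hq2 ht ((hld _).1 ?_)
      rw [zpow_sub, ← hchA, ← hchA, h, mul_inv_cancel]
    exact eq_one_of_fix hω (hf _ (by simp)) (hf _ (by simp)) (hf _ (by simp)) (hf _ (by simp))
  have hTg : Th σ (ψ g0) = ψ g0 * D4.C.nR L r0 s⁻¹ := by
    rw [slHom_Th hψ, ← slHom_N hψ, ← map_mul]
    congr 1
    refine Subtype.ext ?_
    have hσz : σ (z : L) = z := by rw [hσu, hzq]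
    have hσs : σ (s : L) = -(s : L) := by
      simp only [s, Units.val_mk0, map_inv₀, map_mul, map_sub, hσz, hσm1, hσm2]
      rw [← neg_sub (m1 : L) m2, mul_neg, inv_neg]
    show g0.1.map σ = g0.1 * (slN s⁻¹).1
    exact frob_eq m1 m2 s z σ hσz hσm1 hσm2 hσs g0 rfl
  -- the subgroup
  let x0 : ↥(Cfsg.Lie.twistedD4 K q) := ⟨xK, hxW⟩
  set M : ℕ := (q ^ 3 - 1) * (q + 1) with hM
  have hMQ : (M : ℤ) = (Q ^ 3 - 1) * (Q + 1) := by
    rw [hM, Nat.cast_mul, Nat.cast_sub (Nat.one_le_pow _ _ (zero_lt_one.trans hq.one_lt))]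
    push_cast; ring
  have hord : orderOf x0 = M := by
    rw [← Subgroup.orderOf_coe, ← orderOf_injective mg (ChevFixed.map_injective (f := f) f.injective),
      show mg (x0 : GL chevD4.Idx K) = MulAut.conj (ψ g0) (D4.C.HT L cc) by
        show mg xK = _
        rw [MulAut.conj_apply, ← hX]; group, MulEquiv.orderOf_eq]
    have hlM : l ^ M = 1 := by rw [← zpow_natCast, hld, hMQ]
    have hpw : ∀ k : ℕ, D4.C.HT L cc ^ k = D4.C.HT L (cc ^ k) := fun k => (map_pow (D4.C.HThom L) cc k).symm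
    refine Nat.dvd_antisymm (orderOf_dvd_of_pow_eq_one ?_) ?_
    · rw [hpw, show cc ^ M = 1 from ?_, D4.C.HT_one]
      have hz : ∀ i : ℤ, (l ^ i) ^ M = 1 := fun i => by
        rw [← zpow_natCast, ← zpow_mul, hld, hMQ]; exact dvd_mul_left _ _
      funext j
      rcases node_cases j with rfl | rfl | rfl | rfl
      · exact hlM
      · exact hz _
      · exact hz _
      · exact hz _
    · set k := orderOf (D4.C.HT L cc)
      have h1 : D4.C.HT L (cc ^ k) = 1 := by rw [← hpw]; exact pow_orderOf_eq_one _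
      have h2 := D4.chA_one h1 a2
      have h3 := D4.ker_sq h1 n0
      have h4 : D4.C.chA (cc ^ k) a2 = D4.C.chA cc a2 ^ (k : ℤ) := by
        simp only [Core.chA, Pi.pow_apply, ← Finset.prod_zpow, ← zpow_natCast, ← zpow_mul, mul_comm]
      rw [h4, hchA, ← zpow_mul, hld, EX_a2] at h2
      change ((l ^ k : Lˣ)) ^ (2 : ℤ) = 1 at h3
      rw [← zpow_natCast, ← zpow_mul, hld] at h3
      rw [← Int.natCast_dvd_natCast, hMQ]
      rcases Int.even_or_odd Q with hev | hodd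
      · obtain ⟨t, ht⟩ := hev
        have h5 := dvd_sub (dvd_mul_of_dvd_left h3 (8 * t ^ 4 + 4 * t ^ 3 - t))
          (dvd_mul_left ((Q ^ 3 - 1) * (Q + 1)) (k : ℤ))
        have e : (k : ℤ) * 2 * (8 * t ^ 4 + 4 * t ^ 3 - t) - k * ((Q ^ 3 - 1) * (Q + 1)) = k := by rw [ht]; ring
        rwa [e] at h5
      · obtain ⟨t, ht⟩ : Odd (-(Q * (1 + Q + Q ^ 2))) := by
          obtain ⟨t, ht⟩ := hodd
          exact ⟨-(4 * t ^ 3 + 8 * t ^ 2 + 6 * t + 2), by rw [ht]; ring⟩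
        rw [ht] at h2
        have h5 := dvd_sub h2 (dvd_mul_of_dvd_left h3 t)
        have e : (2 * t + 1) * (k : ℤ) - k * 2 * t = k := by ring
        rwa [e] at h5
  refine ⟨Subgroup.zpowers x0, inferInstance, by rw [Nat.card_zpowers, hord], ?_⟩
  have hle : Subgroup.zpowers x0 ≤ Subgroup.centralizer (Subgroup.zpowers x0 : Set ↥(Cfsg.Lie.twistedD4 K q)) := by
    intro y hy
    rw [Subgroup.mem_centralizer_iff]
    intro y' hy'
    obtain ⟨i, rfl⟩ := hy
    obtain ⟨j, rfl⟩ := hy'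
    exact ((Commute.refl x0).zpow_zpow j i).eq
  refine (Subgroup.eq_of_le_of_card_ge hle ?_).symm
  rw [Nat.card_zpowers, hord]
  -- the torus of a centralising element
  have hcent : ∀ y : ↥(Subgroup.centralizer (Subgroup.zpowers x0 : Set ↥(Cfsg.Lie.twistedD4 K q))),
      ∃ e, mg (y.1 : GL chevD4.Idx K) = ψ g0 * D4.C.HT L e * (ψ g0)⁻¹ ∧
        D4.C.chA e a3 = D4.C.chA e a1 ^ q ∧ D4.C.chA e a4 = D4.C.chA e a1 ^ q ^ 2 ∧
        D4.C.chA e a1 ^ (q ^ 3 - 1) = 1 ∧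
        D4.C.chA e a2 ^ (q + 1) * D4.C.chA e a1 ^ (q ^ 2 + q + 1) = 1 := by
    intro y
    set Y := mg (y.1 : GL chevD4.Idx K) with hY
    obtain ⟨hyG, hyT⟩ := (hmemW _).1 y.1.2
    have hYx : Y * mg xK = mg xK * Y := by
      rw [hY, ← map_mul, ← map_mul]
      exact congrArg mg (congrArg Subtype.val
        (Subgroup.mem_centralizer_iff.1 y.2 x0 (Subgroup.mem_zpowers x0))).symm
    have hYG : Y ∈ chevD4.group L := ChevFixed.map_group_le D4.C f ⟨_, hyG, rfl⟩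
    have hc : Commute ((ψ g0)⁻¹ * Y * ψ g0) (D4.C.HT L cc) := by
      rw [← hX]
      show _ = _
      calc (ψ g0)⁻¹ * Y * ψ g0 * ((ψ g0)⁻¹ * mg xK * ψ g0) = (ψ g0)⁻¹ * (Y * mg xK) * ψ g0 := by group
        _ = (ψ g0)⁻¹ * (mg xK * Y) * ψ g0 := by rw [hYx]
        _ = _ := by group
    obtain ⟨e, he⟩ := G2Torus.Regular.exists_HT_of_commute_stab (D4.orth FK hq.one_lt hK).comm hreg1 hreg2
      (mul_mem (mul_mem (inv_mem (hψmem _)) hYG) (hψmem _)) hc
    refine ⟨e, by rw [← he]; group, ?_⟩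
    have hYT : Th σ Y = Y := by rw [hY, ← hmg _ hyG, hyT]
    have h := congrArg (Th σ) he
    rw [map_mul, map_mul, map_inv, hYT, hTg, Th_HT, mul_inv_rev] at h
    rw [show (D4.C.nR L r0 s⁻¹)⁻¹ * (ψ g0)⁻¹ * Y * (ψ g0 * D4.C.nR L r0 s⁻¹) =
      (D4.C.nR L r0 s⁻¹)⁻¹ * ((ψ g0)⁻¹ * Y * ψ g0) * D4.C.nR L r0 s⁻¹ by group, he, nR_HT_conj] at h
    set k := D4.C.chA e r0 with hk
    have hrel : ∀ r, Units.map (σ : L →* L) (D4.C.chA e r) =
        k⁻¹ ^ pr chevD4 r0 (Frob.rootPerm D4.g r) * D4.C.chA e (Frob.rootPerm D4.g r) := fun r => by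
      rw [← chA_Th]
      have h' : Core.diag L (fun t => k⁻¹ ^ pr chevD4 r0 t * D4.C.chA e t) =
          Core.diag L (fun t => D4.C.chA (D4.τT σ e) t) := by
        refine Eq.trans ?_ h
        rw [Core.hD, show D4.C.HT L e = Core.diag L (fun t => D4.C.chA e t) from rfl, D4.C.diag_mul]
        rfl
      exact (congrFun (D4.C.diag_inj L h') _).symm
    obtain ⟨π1, π3, π4, π2, -⟩ := pi_lit
    obtain ⟨R1, R3, R4, R2, -⟩ := r0_data
    have u1 := hrel a1
    have u3 := hrel a3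
    have u4 := hrel a4
    have u2 := hrel a2
    rw [π1, R3, zpow_zero, one_mul] at u1
    rw [π3, R4, zpow_zero, one_mul] at u3
    rw [π4, R1, zpow_zero, one_mul] at u4
    rw [π2, R2, zpow_one] at u2
    have hpw : ∀ u : Lˣ, Units.map (σ : L →* L) u = u ^ q := fun u => Units.ext (hσu u)
    rw [hpw] at u1 u2 u3 u4
    set v := D4.C.chA e a1 with hv
    set w := D4.C.chA e a2 with hw
    have u3' : D4.C.chA e a4 = v ^ q ^ 2 := by rw [← u3, ← u1, ← pow_mul, sq]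
    refine ⟨u1.symm, u3', ?_, ?_⟩
    · rw [u3', ← pow_mul, ← pow_succ] at u4
      refine mul_right_cancel (b := v) ?_
      rw [← pow_succ, Nat.sub_add_cancel (Nat.one_le_pow _ _ (zero_lt_one.trans hq.one_lt)), one_mul]
      exact u4
    · have hkv : k = v * w * w * v ^ q * v ^ q ^ 2 := by rw [hk, chA_r0, ← hv, ← hw, ← u1, u3']
      rw [eq_inv_mul_iff_mul_eq, hkv] at u2
      refine mul_right_cancel (b := w) ?_
      rw [one_mul]
      conv_rhs => rw [← u2]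
      simp only [pow_succ, pow_add, pow_zero, mul_one, one_mul, mul_comm, mul_left_comm, mul_assoc]
  choose e he hv3 hv4 hvM hwM using hcent
  let V := {v : Lˣ // v ^ (q ^ 3 - 1) = 1}
  let W1 := {w : Lˣ // w ^ (q + 1) = 1}
  let w0 : Lˣ → Lˣ := fun v => Classical.epsilon fun w => w ^ (q + 1) * v ^ (q ^ 2 + q + 1) = 1
  have hw0 : ∀ y, (D4.C.chA (e y) a2 / w0 (D4.C.chA (e y) a1)) ^ (q + 1) = 1 := fun y => by
    rw [div_pow, div_eq_one]
    exact mul_right_cancel ((hwM y).trans (Classical.epsilon_spec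
      (p := fun w => w ^ (q + 1) * D4.C.chA (e y) a1 ^ (q ^ 2 + q + 1) = 1) ⟨_, hwM y⟩).symm)
  let ι : _ → V × W1 := fun y => (⟨D4.C.chA (e y) a1, hvM y⟩, ⟨_, hw0 y⟩)
  have hι : Function.Injective ι := by
    intro y y' h
    have hv : D4.C.chA (e y) a1 = D4.C.chA (e y') a1 := congrArg (fun p : V × W1 => p.1.1) h
    have hw := congrArg (fun p : V × W1 => p.2.1) h
    simp only [ι] at hw
    rw [hv] at hw
    have hw' : D4.C.chA (e y) a2 = D4.C.chA (e y') a2 := div_left_injective hw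
    have hHT : D4.C.HT L (e y) = D4.C.HT L (e y') := by
      rw [D4.C.HT_eq_T, D4.C.HT_eq_T]
      congr 1
      obtain ⟨p0, p1, p2, p3⟩ := p_lit
      funext j
      rcases node_cases j with rfl | rfl | rfl | rfl
      · rw [p0, hv]
      · rw [p1, hw']
      · rw [p2, hv3, hv3, hv]
      · rw [p3, hv4, hv4, hv]
    have h2 : mg (y.1 : GL chevD4.Idx K) = mg (y'.1 : GL chevD4.Idx K) := by rw [he, he, hHT]
    exact Subtype.ext (Subtype.ext (ChevFixed.map_injective (f := f) f.injective h2))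
  have hker : ∀ k : ℕ, 0 < k → Nat.card {u : Lˣ // u ^ k = 1} ≤ k := fun k hk => by
    refine le_trans (le_of_eq (?_ : _ = Nat.card (powMonoidHom k : Lˣ →* Lˣ).ker)) ?_
    · exact Nat.card_congr (Equiv.subtypeEquivRight fun u => by simp [MonoidHom.mem_ker])
    · rw [IsCyclic.card_powMonoidHom_ker]
      exact Nat.gcd_le_right _ hk
  refine (Nat.card_le_card_of_injective ι hι).trans ?_
  rw [Nat.card_prod]
  exact Nat.mul_le_mul (hker _ (Nat.sub_pos_of_lt (Nat.one_lt_pow (by norm_num) hq.one_lt)))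
    (hker _ (Nat.succ_pos q))

end Cfsg.Agent.Lib.ChevStructure.D4Torus
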