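import Cfsg.Agent.Lib.LieTwisted.Twist.D4
import Cfsg.Agent.Lib.Linear.Transvection
import Cfsg.Agent.Lib.ChevStructure.RankOne

/-!
Root and exponent data for the maximal torus of order (q³ - 1)(q + 1) of ³D₄(q).
-/

set_option autoImplicit false
set_option maxRecDepth 100000
set_option linter.unusedSectionVars false

namespace Cfsg.Agent.Lib.ChevStructure.D4Torus

open Cfsg.Lie ChevStructure LieTwisted LieTwisted.Twist

abbrev SL2 (F : Type*) [CommRing F] := Matrix.SpecialLinearGroup (Fin 2) F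

theorem sl_ext {F : Type*} [Field F] {G : Type*} [Group G] {f g : SL2 F →* G}
    (hU : ∀ t, f (slU t) = g (slU t)) (hL : ∀ t, f (slL t) = g (slL t)) : f = g := by
  refine MonoidHom.eq_of_eqOn_dense (s := (MonoidHom.eqLocus f g : Set (SL2 F))) ?_ fun x hx => hx
  rw [Subgroup.closure_eq]
  refine Linear.sl_eq_top_of_transvection_mem _ fun i j hij c => ?_
  fin_cases i <;> fin_cases j
  · exact absurd rfl hij
  · have e : Matrix.SpecialLinearGroup.transvection hij c = slU c := by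
      refine Subtype.ext ?_
      ext a b; fin_cases a <;> fin_cases b <;> simp [Matrix.SpecialLinearGroup.transvection_coe, Matrix.single, slU]
    show f _ = g _
    rw [e]; exact hU c
  · have e : Matrix.SpecialLinearGroup.transvection hij c = slL c := by
      refine Subtype.ext ?_
      ext a b; fin_cases a <;> fin_cases b <;> simp [Matrix.SpecialLinearGroup.transvection_coe, Matrix.single, slL]
    show f _ = g _
    rw [e]; exact hL c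
  · exact absurd rfl hij

/-- conjugation by diag(z, 1) -/
def delta {F : Type*} [Field F] (z : Fˣ) : SL2 F →* SL2 F where
  toFun M := ⟨!![M.1 0 0, (z : F) * M.1 0 1; (↑z⁻¹ : F) * M.1 1 0, M.1 1 1], by
    have h := M.2
    rw [Matrix.det_fin_two] at h
    rw [Matrix.det_fin_two_of]
    linear_combination h - M.1 0 1 * M.1 1 0 * z.mul_inv⟩
  map_one' := Subtype.ext (by ext a b; fin_cases a <;> fin_cases b <;> simp)
  map_mul' M N := Subtype.ext (by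
    show !![(M.1 * N.1) 0 0, (z : F) * (M.1 * N.1) 0 1; (↑z⁻¹ : F) * (M.1 * N.1) 1 0, (M.1 * N.1) 1 1] =
      !![M.1 0 0, (z : F) * M.1 0 1; (↑z⁻¹ : F) * M.1 1 0, M.1 1 1] *
        !![N.1 0 0, (z : F) * N.1 0 1; (↑z⁻¹ : F) * N.1 1 0, N.1 1 1]
    ext a b
    fin_cases a <;> fin_cases b <;>
      simp [Matrix.mul_apply, Fin.sum_univ_two, Matrix.SpecialLinearGroup.coe_mul] <;> field_simp)

abbrev n0 : Fin chevD4.rank := ⟨0, by decide⟩
abbrev n1 : Fin chevD4.rank := ⟨1, by decide⟩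
abbrev n2 : Fin chevD4.rank := ⟨2, by decide⟩
abbrev n3 : Fin chevD4.rank := ⟨3, by decide⟩
abbrev a1 : Rt chevD4 := ⟨18, by decide⟩
abbrev a2 : Rt chevD4 := ⟨14, by decide⟩
abbrev a3 : Rt chevD4 := ⟨13, by decide⟩
abbrev a4 : Rt chevD4 := ⟨12, by decide⟩
abbrev a12 : Rt chevD4 := ⟨19, by decide⟩
/-- the highest root -/
abbrev r0 : Rt chevD4 := ⟨23, by decide⟩

theorem node_cases (j : Fin chevD4.rank) : j = n0 ∨ j = n1 ∨ j = n2 ∨ j = n3 := by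
  revert j; decide

theorem p_lit : D4.C.p n0 = a1 ∧ D4.C.p n1 = a2 ∧ D4.C.p n2 = a3 ∧ D4.C.p n3 = a4 := by
  simp only [D4.p_eq]; decide

theorem rho_symm : (Frob.nodePerm D4.g).symm n0 = n3 ∧ (Frob.nodePerm D4.g).symm n1 = n1 ∧
    (Frob.nodePerm D4.g).symm n2 = n0 ∧ (Frob.nodePerm D4.g).symm n3 = n2 := by decide +kernel

theorem pi_lit : Frob.rootPerm D4.g a1 = a3 ∧ Frob.rootPerm D4.g a3 = a4 ∧ Frob.rootPerm D4.g a4 = a1 ∧
    Frob.rootPerm D4.g a2 = a2 ∧ Frob.rootPerm D4.g r0 = r0 ∧ Frob.rootPerm D4.g r0.rev = r0.rev ∧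
    GraphData.symD4.ε (r0 : Rt chevD4).val = 1 ∧ GraphData.symD4.ε (r0.rev : Rt chevD4).val = 1 := by
  decide +kernel

theorem r0_data : pr chevD4 r0 a1 = 0 ∧ pr chevD4 r0 a3 = 0 ∧ pr chevD4 r0 a4 = 0 ∧ pr chevD4 r0 a2 = 1 ∧
    A chevD4 n0 r0 = 0 ∧ A chevD4 n1 r0 = 1 ∧ A chevD4 n2 r0 = 0 ∧ A chevD4 n3 r0 = 0 ∧
    co chevD4 r0 n0 = 1 ∧ co chevD4 r0 n1 = 2 ∧ co chevD4 r0 n2 = 1 ∧ co chevD4 r0 n3 = 1 := by
  decide +kernel

theorem A_r0 : ∀ j, A chevD4 j r0 = A chevD4 j a1 + A chevD4 j a2 + A chevD4 j a2 + A chevD4 j a3 + A chevD4 j a4 := by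
  decide +kernel

theorem prod_four {M : Type*} [CommMonoid M] (f : Fin chevD4.rank → M) : ∏ j, f j = f n0 * f n1 * f n2 * f n3 :=
  Fin.prod_univ_four f

theorem chA_r0 {R : Type*} [CommRing R] (e : Fin chevD4.rank → Rˣ) :
    D4.C.chA e r0 = D4.C.chA e a1 * D4.C.chA e a2 * D4.C.chA e a2 * D4.C.chA e a3 * D4.C.chA e a4 := by
  simp only [Core.chA, ← Finset.prod_mul_distrib, ← zpow_add]
  exact Finset.prod_congr rfl fun j _ => by rw [A_r0]

theorem pr_sep : ∀ r s : Rt chevD4, pr chevD4 r a1 = pr chevD4 s a1 → pr chevD4 r a3 = pr chevD4 s a3 →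
    pr chevD4 r a4 = pr chevD4 s a4 → pr chevD4 r a12 = pr chevD4 s a12 → r = s := by
  unfold Rt; decide +kernel

/-- An element of the Weyl group fixing four independent roots is trivial. -/
theorem eq_one_of_fix {σ : Equiv.Perm (Rt chevD4)} (hσ : σ ∈ D4.C.WG) (h1 : σ a1 = a1) (h3 : σ a3 = a3)
    (h4 : σ a4 = a4) (h12 : σ a12 = a12) : σ = 1 := by
  obtain ⟨L, rfl⟩ := D4.C.mem_WG_iff.1 hσ
  have h : ∀ r s, D4.C.pprod L s = s → pr chevD4 (D4.C.pprod L r) s = pr chevD4 r s := fun r s hs => by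
    conv_lhs => rw [← hs, D4.C.pprod_pr]
  exact Equiv.ext fun r => pr_sep _ _ (h r _ h1) (h r _ h3) (h r _ h4) (h r _ h12)

/-- the exponent of λ at a root -/
def EX (Q : ℤ) (r : Rt chevD4) : ℤ :=
  A chevD4 n0 r + A chevD4 n1 r * (-(Q ^ 3 - 1)) + A chevD4 n2 r * (Q - (Q ^ 3 - 1)) + A chevD4 n3 r * Q ^ 2

theorem A_bound : ∀ (r : Rt chevD4) (j : Fin chevD4.rank), -2 ≤ A chevD4 j r ∧ A chevD4 j r ≤ 2 := by
  unfold Rt; decide +kernel

theorem A_ne : ∀ r : Rt chevD4, ¬ (A chevD4 n0 r = 0 ∧ A chevD4 n1 r = 0 ∧ A chevD4 n2 r = 0 ∧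
    A chevD4 n3 r = 0) := by
  unfold Rt; decide +kernel

theorem A_inj : ∀ r s : Rt chevD4, A chevD4 n0 r = A chevD4 n0 s → A chevD4 n1 r = A chevD4 n1 s →
    A chevD4 n2 r = A chevD4 n2 s → A chevD4 n3 r = A chevD4 n3 s → r = s := by
  unfold Rt; decide +kernel

theorem small_cases : ∀ Q ∈ ([2, 3, 4, 5] : List ℤ), ∀ r : Rt chevD4,
    EX Q r % ((Q ^ 3 - 1) * (Q + 1)) ≠ 0 ∧
      ∀ s ∈ ([a1, a3, a4, a12] : List (Rt chevD4)), r ≠ s → (EX Q r - EX Q s) % ((Q ^ 3 - 1) * (Q + 1)) ≠ 0 := by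
  unfold Rt; decide +kernel

theorem coef_zero {Q b0 b1 b2 b3 : ℤ} (hQ : 6 ≤ Q) (h0 : |b0| ≤ 4) (h1 : |b1| ≤ 4) (h2 : |b2| ≤ 4)
    (h3 : |b3| ≤ 4) (h : (Q ^ 3 - 1) * (Q + 1) ∣ b0 + b1 * (-(Q ^ 3 - 1)) + b2 * (Q - (Q ^ 3 - 1)) + b3 * Q ^ 2) :
    b0 = 0 ∧ b1 = 0 ∧ b2 = 0 ∧ b3 = 0 := by
  have hb0 := abs_le.1 h0
  have hb2 := abs_le.1 h2
  have hb3 := abs_le.1 h3
  have hd : Q ^ 3 - 1 ∣ b0 + b2 * Q + b3 * Q ^ 2 := by
    have hd1 := (dvd_mul_right (Q ^ 3 - 1) (Q + 1)).trans h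
    have hd2 : Q ^ 3 - 1 ∣ (b1 + b2) * (Q ^ 3 - 1) := dvd_mul_left _ _
    have e : b0 + b2 * Q + b3 * Q ^ 2 = b0 + b1 * (-(Q ^ 3 - 1)) + b2 * (Q - (Q ^ 3 - 1)) + b3 * Q ^ 2 +
        (b1 + b2) * (Q ^ 3 - 1) := by ring
    rw [e]
    exact dvd_add hd1 hd2
  have hz : b0 + b2 * Q + b3 * Q ^ 2 = 0 := by
    refine Int.eq_zero_of_abs_lt_dvd hd ?_
    rw [abs_lt]
    constructor <;> nlinarith
  have hq0 : Q ∣ b0 := ⟨-(b2 + b3 * Q), by linarith⟩
  obtain rfl : b0 = 0 := Int.eq_zero_of_abs_lt_dvd hq0 (by omega)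
  have hz2 : b2 + b3 * Q = 0 := by
    have : Q * (b2 + b3 * Q) = 0 := by linarith
    exact (mul_eq_zero.1 this).resolve_left (by omega)
  obtain rfl : b2 = 0 := Int.eq_zero_of_abs_lt_dvd (show Q ∣ b2 from ⟨-b3, by linarith⟩) (by omega)
  obtain rfl : b3 = 0 := by
    rw [zero_add, mul_eq_zero] at hz2
    exact hz2.resolve_right (by omega)
  refine ⟨rfl, ?_, rfl, rfl⟩
  have hM : Q ^ 3 - 1 ≠ 0 := by nlinarith
  have h' : (Q ^ 3 - 1) * (Q + 1) ∣ (Q ^ 3 - 1) * (-b1) := by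
    convert h using 1
    ring
  exact neg_eq_zero.1 (Int.eq_zero_of_abs_lt_dvd ((mul_dvd_mul_iff_left hM).1 h') (by rw [abs_neg]; omega))

theorem EX_ne {Q : ℤ} (hQ : 2 ≤ Q) (r : Rt chevD4) : ¬ (Q ^ 3 - 1) * (Q + 1) ∣ EX Q r := by
  intro h
  by_cases h5 : Q ≤ 5
  · exact (small_cases Q (by interval_cases Q <;> simp) r).1 (Int.emod_eq_zero_of_dvd h)
  have hb := A_bound r
  exact A_ne r (coef_zero (by omega) (abs_le.2 (by have := hb n0; omega)) (abs_le.2 (by have := hb n1; omega))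
    (abs_le.2 (by have := hb n2; omega)) (abs_le.2 (by have := hb n3; omega)) h)

theorem EX_sep {Q : ℤ} (hQ : 2 ≤ Q) {r s : Rt chevD4} (hs : s ∈ ([a1, a3, a4, a12] : List (Rt chevD4)))
    (h : (Q ^ 3 - 1) * (Q + 1) ∣ EX Q r - EX Q s) : r = s := by
  by_contra hne
  by_cases h5 : Q ≤ 5
  · exact (small_cases Q (by interval_cases Q <;> simp) r).2 s hs hne (Int.emod_eq_zero_of_dvd h)
  have hr := A_bound r
  have hs' := A_bound s
  have key : EX Q r - EX Q s = (A chevD4 n0 r - A chevD4 n0 s) + (A chevD4 n1 r - A chevD4 n1 s) * (-(Q ^ 3 - 1)) +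
      (A chevD4 n2 r - A chevD4 n2 s) * (Q - (Q ^ 3 - 1)) + (A chevD4 n3 r - A chevD4 n3 s) * Q ^ 2 := by
    simp only [EX]; ring
  rw [key] at h
  obtain ⟨e0, e1, e2, e3⟩ := coef_zero (by omega) (abs_le.2 (by have := hr n0; have := hs' n0; omega))
    (abs_le.2 (by have := hr n1; have := hs' n1; omega))
    (abs_le.2 (by have := hr n2; have := hs' n2; omega))
    (abs_le.2 (by have := hr n3; have := hs' n3; omega)) h
  exact hne (A_inj r s (sub_eq_zero.1 e0) (sub_eq_zero.1 e1) (sub_eq_zero.1 e2) (sub_eq_zero.1 e3))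

theorem EX_a2 (Q : ℤ) : EX Q a2 = -(Q * (1 + Q + Q ^ 2)) := by
  have h : A chevD4 n0 a2 = -1 ∧ A chevD4 n1 a2 = 2 ∧ A chevD4 n2 a2 = -1 ∧ A chevD4 n3 a2 = -1 := by
    decide +kernel
  obtain ⟨e0, e1, e2, e3⟩ := h
  simp only [EX, e0, e1, e2, e3]
  ring

end Cfsg.Agent.Lib.ChevStructure.D4Torus
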